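import Mathlib
import Groth.Prelude.Def_ClSub2
import Groth.Prelude.Def_CohB1
import Groth.Prelude.Def_Coh
import Groth.Agent.Lib.Helper5.NApprox.PropA
import Groth.Agent.Lib.Helper1.ProperOver
import Groth.Agent.Lib.Lead.QC.SuppPullback
import Groth.Agent.Lib.Lead.QC.Support

/-!
# Proper support descends to a stage (S9221)
-/

set_option autoImplicit false

universe u

open CategoryTheory CategoryTheory.Limits AlgebraicGeometry MorphismProperty

namespace Groth.Agent.H5.SupLim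

/-- the reduced closed subscheme on the preimage of a closed subscheme maps onto its base change -/
theorem exists_closedImm_to {X₀ Y₀ Xi Yi Zi Z₀ : Scheme.{u}} (f₀ : X₀ ⟶ Y₀) (ι₀ : Z₀ ⟶ X₀)
    [IsClosedImmersion ι₀]
    (pY : Yi ⟶ Y₀) (pX : Xi ⟶ X₀) (fi : Xi ⟶ Yi) (hX : IsPullback pX fi f₀ pY)
    (pZ : Zi ⟶ Z₀) (hi : Zi ⟶ Yi) (hZ : IsPullback pZ hi (ι₀ ≫ f₀) pY)
    (T : TopologicalSpace.Closeds Xi) (hT : (T : Set Xi) = pX ⁻¹' Set.range ι₀) :
    ∃ π : (Scheme.IdealSheafData.vanishingIdeal T).subscheme ⟶ Zi,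
      IsClosedImmersion π ∧ Surjective π ∧
      π ≫ hi = (Scheme.IdealSheafData.vanishingIdeal T).subschemeι ≫ fi := by
  let e : Zi ⟶ Xi := hX.lift (pZ ≫ ι₀) hi (by rw [Category.assoc]; exact hZ.w)
  have e1 : e ≫ pX = pZ ≫ ι₀ := hX.lift_fst _ _ _
  have e2 : e ≫ fi = hi := hX.lift_snd _ _ _
  have hE : IsPullback e pZ pX ι₀ := by
    have houter : IsPullback (e ≫ fi) pZ pY (ι₀ ≫ f₀) := by rw [e2]; exact hZ.flip
    exact IsPullback.of_right houter e1 hX.flip
  haveI : IsClosedImmersion e :=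
    MorphismProperty.of_isPullback (P := @IsClosedImmersion) hE.flip inferInstance
  have hre : Set.range e = (T : Set Xi) := by
    have h1 : e = hE.isoPullback.hom ≫ pullback.fst pX ι₀ := (hE.isoPullback_hom_fst).symm
    have hs : Set.range hE.isoPullback.hom = Set.univ :=
      Set.range_eq_univ.mpr (hE.isoPullback.hom.homeomorph.surjective)
    rw [hT, h1, Scheme.Hom.comp_base, TopCat.coe_comp, Set.range_comp, hs, Set.image_univ,
      Scheme.Pullback.range_fst]
  have hker : e.ker ≤ (Scheme.IdealSheafData.vanishingIdeal T).subschemeι.ker := by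
    rw [Scheme.IdealSheafData.ker_subschemeι,
      ← Scheme.IdealSheafData.le_support_iff_le_vanishingIdeal]
    intro x hx
    change x ∈ (e.ker.support : Set Xi)
    rw [Scheme.Hom.support_ker, hre]
    exact subset_closure hx
  let π := IsClosedImmersion.lift e (Scheme.IdealSheafData.vanishingIdeal T).subschemeι hker
  have hπ : π ≫ e = (Scheme.IdealSheafData.vanishingIdeal T).subschemeι :=
    IsClosedImmersion.lift_fac _ _ _
  haveI : IsClosedImmersion (π ≫ e) := by rw [hπ]; infer_instance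
  haveI : IsClosedImmersion π := IsClosedImmersion.of_comp π e
  refine ⟨π, inferInstance, ⟨?_⟩, ?_⟩
  · intro z
    have hz : e z ∈ Set.range (Scheme.IdealSheafData.vanishingIdeal T).subschemeι := by
      rw [Scheme.IdealSheafData.range_subschemeι, Scheme.IdealSheafData.coe_support_vanishingIdeal,
        ← hre]
      exact ⟨z, rfl⟩
    obtain ⟨w, hw⟩ := hz
    refine ⟨w, ?_⟩
    apply e.isClosedEmbedding.injective
    rw [← Scheme.Hom.comp_apply, hπ, hw]
  · rw [← e2, ← Category.assoc, hπ]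


section Main

variable {I : Type u} [SmallCategory I] [IsCofiltered I]
  (D : I ⥤ Scheme.{u}) (c : Limits.Cone D) (hc : Limits.IsLimit c)

lemma support_pullback_eq {X Y : Scheme.{u}} (q : X ⟶ Y) (F : Y.Modules) [Coh.IsQCoh F]
    (hF : CohB1.IsFT F) {Z : Scheme.{u}} (ι : Z ⟶ Y) (hι : Set.range ι = CohB1.support F) :
    CohB1.support ((Scheme.Modules.pullback q).obj F) = q ⁻¹' Set.range ι := by
  ext x
  rw [hι]
  exact Groth.Agent.LD.QC.support_pullback q F hF x

include hc in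
theorem main
    [∀ (i j : I) (f : i ⟶ j), IsAffineHom (D.map f)] (i₀ : I) [CompactSpace (D.obj i₀)]
    [QuasiSeparatedSpace (D.obj i₀)] {X₀ Y₀ : Scheme.{u}} (f₀ : X₀ ⟶ Y₀) (g₀ : Y₀ ⟶ D.obj i₀)
    [CompactSpace X₀] [QuasiSeparatedSpace X₀] [CompactSpace Y₀] [QuasiSeparatedSpace Y₀]
    [LocallyOfFiniteType f₀] (F₀ : X₀.Modules) [Coh.IsQCoh F₀] (hF₀ : CohB1.IsFT F₀)
    {X Y : Scheme.{u}} (f : X ⟶ Y) (g : Y ⟶ c.pt) (qY : Y ⟶ Y₀) (qX : X ⟶ X₀)
    (hY : IsPullback qY g g₀ (c.π.app i₀)) (hX : IsPullback qX f f₀ qY)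
    (hF : ClSub.IsProperOver f (CohB1.support ((Scheme.Modules.pullback qX).obj F₀))) :
    ∃ (i : I) (φ : i ⟶ i₀) (Xi Yi : Scheme.{u}) (fi : Xi ⟶ Yi) (gi : Yi ⟶ D.obj i) (pY : Yi ⟶ Y₀)
      (pX : Xi ⟶ X₀), IsPullback pY gi g₀ (D.map φ) ∧ IsPullback pX fi f₀ pY ∧
        ClSub.IsProperOver fi (CohB1.support ((Scheme.Modules.pullback pX).obj F₀)) := by
  have hZ₀ : IsClosed (CohB1.support F₀) :=
    Groth.Agent.LD.QC.isClosed_support_of_isFiniteType F₀ hF₀
  let I₀ := Scheme.IdealSheafData.vanishingIdeal ⟨CohB1.support F₀, hZ₀⟩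
  let ι₀ := I₀.subschemeι
  have hr₀ : Set.range ι₀ = CohB1.support F₀ := by
    rw [Scheme.IdealSheafData.range_subschemeι, Scheme.IdealSheafData.coe_support_vanishingIdeal]
    rfl
  let h₀ := ι₀ ≫ f₀
  haveI : CompactSpace I₀.subscheme := QuasiCompact.compactSpace_of_compactSpace ι₀
  haveI : QuasiSeparatedSpace I₀.subscheme := quasiSeparatedSpace_of_quasiSeparated ι₀
  haveI : LocallyOfFiniteType h₀ := inferInstance
  -- the limit level
  obtain ⟨hcl, hprop⟩ := hF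
  have hsupp := support_pullback_eq qX F₀ hF₀ ι₀ hr₀
  obtain ⟨π, hπc, hπs, hπ⟩ := exists_closedImm_to f₀ ι₀ qY qX f hX
    (pullback.fst h₀ qY) (pullback.snd h₀ qY) (IsPullback.of_hasPullback h₀ qY)
    ⟨CohB1.support ((Scheme.Modules.pullback qX).obj F₀), hcl⟩ hsupp
  haveI := hπc
  haveI := hπs
  haveI : IsProper (π ≫ pullback.snd h₀ qY) := by rw [hπ]; exact hprop
  haveI : IsSeparated (pullback.snd h₀ qY) :=
    Groth.Agent.H1.isSeparated_of_comp_surjective_universallyClosed π _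
  haveI : IsProper (pullback.snd h₀ qY) :=
    Groth.Agent.H5.NApprox.isProper_of_comp_surjective π _
  obtain ⟨i, φ, Zi, Yi, hi, gi, pY, pZ, hpY, hpZ, hproper⟩ :=
    Groth.Agent.H5.NApprox.exists_isProper_descend D c hc i₀ h₀ g₀ (pullback.snd h₀ qY) g qY
      (pullback.fst h₀ qY) hY (IsPullback.of_hasPullback h₀ qY)
  haveI := hproper
  refine ⟨i, φ, pullback f₀ pY, Yi, pullback.snd f₀ pY, gi, pY, pullback.fst f₀ pY, hpY,
    IsPullback.of_hasPullback f₀ pY, ?_⟩
  have hsuppi := support_pullback_eq (pullback.fst f₀ pY) F₀ hF₀ ι₀ hr₀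
  have hcli : IsClosed (CohB1.support ((Scheme.Modules.pullback (pullback.fst f₀ pY)).obj F₀)) :=
    Groth.Agent.LD.QC.isClosed_support_of_isFiniteType _
      (Groth.Agent.LD.QC.isFiniteType_pullback (pullback.fst f₀ pY) F₀ hF₀)
  obtain ⟨πi, hπic, -, hπi⟩ := exists_closedImm_to f₀ ι₀ pY (pullback.fst f₀ pY)
    (pullback.snd f₀ pY) (IsPullback.of_hasPullback f₀ pY) pZ hi hpZ
    ⟨CohB1.support ((Scheme.Modules.pullback (pullback.fst f₀ pY)).obj F₀), hcli⟩ hsuppi
  haveI := hπic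
  refine ⟨hcli, ?_⟩
  rw [← hπi]
  infer_instance

end Main

end Groth.Agent.H5.SupLim
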